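import Groth.Agent.Lib.AttrBorel21.CentGenMain
import Groth.Agent.Lib.MTExt29.Comm
import Groth.Agent.Lib.MTRigid29.MapChS
import Groth.Agent.Lib.MTRigid29.SpMultType
import Groth.Agent.Lib.MTRigid29.TrivGlobal
import Groth.Agent.Lib.MTRigid29.SubgrpLift
import Groth.Agent.Lib.UnitsRos.Char
import Groth.Agent.Lib.AbRigid.KernelPair
import Groth.Agent.S19598
import Groth.Agent.S3036

/-!
# Quotients, descent of homomorphisms and diagonalisable groups over an algebraically closed field
-/

set_option autoImplicit false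
set_option linter.style.haveILetI false
set_option backward.isDefEq.respectTransparency false
set_option backward.isDefEq.respectTransparency.types false
set_option maxSynthPendingDepth 3

universe u

open CategoryTheory CategoryTheory.Limits MonoidalCategory CartesianMonoidalCategory MonObj GrpObj AlgebraicGeometry

noncomputable section

namespace Groth.Agent.CharTorus15

open DiagGL MTRigid29

variable {k : Type u} [Field k]

theorem qc_left {X Y : Over (Spec (CommRingCat.of k))} [GrpObj Y] [LocallyOfFiniteType Y.hom] [QuasiCompact X.hom]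
    (f : X ⟶ Y) : QuasiCompact f.left := by
  haveI : IsSeparated Y.hom := AbRigid.isSeparated_of_grpObj Y
  haveI : QuasiCompact (f.left ≫ Y.hom) := by rw [Over.w f]; infer_instance
  exact QuasiCompact.of_comp f.left Y.hom

/-- A homomorphism out of a faithfully flat quotient killing the kernel descends. -/
theorem desc_hom {G N Q Z : Over (Spec (CommRingCat.of k))} [GrpObj G] [GrpObj N] [GrpObj Q] [GrpObj Z]
    (n : N ⟶ G) (p : G ⟶ Q) [IsMonHom p] [Flat p.left] [Surjective p.left] [QuasiCompact p.left]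
    (hker : AlgGrp.IsKernel n p) (f : G ⟶ Z) [IsMonHom f] (hf : n ≫ f = 1) :
    ∃ f' : Q ⟶ Z, IsMonHom f' ∧ p ≫ f' = f := by
  obtain ⟨f', hf'⟩ := MTExt29.exists_desc p f fun {X} a b hab => by
    have h : (a⁻¹ * b) ≫ p = 1 := by rw [MonObj.mul_comp, GrpObj.inv_comp, hab, inv_mul_cancel]
    obtain ⟨c, hc⟩ : ∃ c : X ⟶ N, c ≫ n = a⁻¹ * b :=
      ⟨hker.lift (a⁻¹ * b) (toUnit X) (by rw [h, Hom.one_def]), hker.lift_fst _ _ _⟩
    have h2 : (a⁻¹ * b) ≫ f = 1 := by rw [← hc, Category.assoc, hf, MonObj.comp_one]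
    rwa [MonObj.mul_comp, GrpObj.inv_comp, inv_mul_eq_one] at h2
  refine ⟨f', ?_, hf'⟩
  obtain ⟨h1, h2, h3⟩ := MTExt29.tensor_cover p p
  haveI := MTExt29.epi_of_cover (p ⊗ₘ p)
  refine ⟨?_, ?_⟩
  · rw [← IsMonHom.one_hom p, Category.assoc, hf', IsMonHom.one_hom]
  · rw [← cancel_epi (p ⊗ₘ p), ← Category.assoc, ← IsMonHom.mul_hom p, Category.assoc, hf', IsMonHom.mul_hom,
      ← Category.assoc, tensorHom_comp_tensorHom, hf']

/-- Kernels of homomorphisms into groups locally of finite type. -/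
theorem exists_kernel {G Z : Over (Spec (CommRingCat.of k))} [GrpObj G] [GrpObj Z] (f : G ⟶ Z) [IsMonHom f] :
    ∃ (N : Over (Spec (CommRingCat.of k))) (_ : GrpObj N) (n : N ⟶ G), IsMonHom n ∧ IsClosedImmersion n.left ∧
      AlgGrp.IsKernel n f := by
  haveI : IsSeparated Z.hom := AbRigid.isSeparated_of_grpObj Z
  haveI : IsClosedImmersion η[Z].left := isClosedImmersion_of_comp_eq_id Z.hom η[Z].left (Over.w η[Z])
  let N : Over (Spec (CommRingCat.of k)) := Over.mk (pullback.fst f.left η[Z].left ≫ G.hom)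
  let n : N ⟶ G := Over.homMk (pullback.fst f.left η[Z].left) rfl
  haveI : IsClosedImmersion n.left := inferInstanceAs (IsClosedImmersion (pullback.fst _ _))
  have hsq : IsPullback n (toUnit N) f η[Z] := by
    have e : pullback.snd f.left η[Z].left = N.hom := by
      have h : η[Z].left ≫ Z.hom = 𝟙 _ := Over.w η[Z]
      show pullback.snd _ _ = pullback.fst _ _ ≫ G.hom
      rw [← Over.w f, pullback.condition_assoc, h]
      exact (Category.comp_id _).symm
    refine IsPullback.of_map (Over.forget _) (Over.OverMorphism.ext ?_) ?_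
    · show n.left ≫ _ = (toUnit N).left ≫ η[Z].left
      rw [show (toUnit N).left = N.hom from rfl, ← e]
      exact pullback.condition
    · show IsPullback n.left (toUnit N).left f.left η[Z].left
      rw [show (toUnit N).left = N.hom from rfl, ← e]
      exact IsPullback.of_hasPullback _ _
  haveI : Mono n := Over.mono_of_mono_left n
  have hn : ∀ {T : Over (Spec (CommRingCat.of k))} (p : T ⟶ N), (p ≫ n) ≫ f = 1 := fun p => by
    rw [Category.assoc, hsq.w, ← Category.assoc, comp_toUnit, Hom.one_def]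
  let e : 𝟙_ _ ⟶ N := hsq.lift η[G] (𝟙 _) (by rw [IsMonHom.one_hom, Category.id_comp])
  let m : N ⊗ N ⟶ N := hsq.lift ((fst N N ≫ n) * (snd N N ≫ n)) (toUnit _) (by
    rw [MonObj.mul_comp, hn, hn, _root_.mul_one, Hom.one_def])
  let v : N ⟶ N := hsq.lift n⁻¹ (toUnit _) (by
    have h := hn (𝟙 N)
    rw [Category.id_comp] at h
    rw [GrpObj.inv_comp, h, inv_one, Hom.one_def])
  have he : e ≫ n = η[G] := hsq.lift_fst _ _ _
  have hm : m ≫ n = (n ⊗ₘ n) ≫ μ[G] := by
    rw [show m ≫ n = _ from hsq.lift_fst _ _ _, Hom.mul_def]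
    congr 1
  have hv : v ≫ n = n ≫ ι[G] := by rw [show v ≫ n = _ from hsq.lift_fst _ _ _, Hom.inv_def]
  letI : GrpObj N := AbRigid.grpObjOfMono n e he m hm v hv
  haveI : IsMonHom n := ⟨he, hm⟩
  exact ⟨N, inferInstance, n, inferInstance, inferInstance, hsq⟩

theorem comp_eq_one {G N Z : Over (Spec (CommRingCat.of k))} [GrpObj Z] {n : N ⟶ G} {f : G ⟶ Z}
    (h : AlgGrp.IsKernel n f) : n ≫ f = 1 := by
  rw [h.w, Hom.one_def]

theorem exists_lift {G N Z T : Over (Spec (CommRingCat.of k))} [GrpObj Z] {n : N ⟶ G} {f : G ⟶ Z}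
    (h : AlgGrp.IsKernel n f) (x : T ⟶ G) (hx : x ≫ f = 1) : ∃ c : T ⟶ N, c ≫ n = x :=
  ⟨h.lift x (toUnit T) (by rw [hx, Hom.one_def]), h.lift_fst _ _ _⟩

theorem mono_of_isKernel {G N Z : Over (Spec (CommRingCat.of k))} [GrpObj Z] {n : N ⟶ G} {f : G ⟶ Z}
    (h : AlgGrp.IsKernel n f) : Mono n :=
  ⟨fun _ _ hab => h.hom_ext hab (toUnit_unique _ _)⟩

theorem isNormal_of_isKernel {G N Z : Over (Spec (CommRingCat.of k))} [GrpObj G] [GrpObj N] [GrpObj Z] {n : N ⟶ G}
    {f : G ⟶ Z}
    [IsMonHom f] (h : AlgGrp.IsKernel n f) : AlgGrp.IsNormalHom n := fun T g x => by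
  obtain ⟨c, hc⟩ := exists_lift h (g * (x ≫ n) * g⁻¹) (by
    rw [MonObj.mul_comp, MonObj.mul_comp, Category.assoc, comp_eq_one h, MonObj.comp_one, _root_.mul_one,
      GrpObj.inv_comp, mul_inv_cancel])
  exact ⟨c, hc.symm⟩

variable [IsAlgClosed k]

/-- The quotient of a smooth connected group by a closed normal subgroup. -/
theorem exists_quotient {G N : Over (Spec (CommRingCat.of k))} [GrpObj G] [GrpObj N] [Smooth G.hom]
    [QuasiCompact G.hom] [ConnectedSpace ↥G.left] (n : N ⟶ G) [IsMonHom n] [IsClosedImmersion n.left]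
    (hN : AlgGrp.IsNormalHom n) :
    ∃ (Q : Over (Spec (CommRingCat.of k))) (_ : GrpObj Q) (q : G ⟶ Q), IsMonHom q ∧
      Flat q.left ∧ Surjective q.left ∧ QuasiCompact q.left ∧ LocallyOfFinitePresentation q.left ∧
      AlgGrp.IsKernel n q ∧ Smooth Q.hom ∧ QuasiCompact Q.hom ∧ ConnectedSpace ↥Q.left := by
  haveI : IsSeparated G.hom := AbRigid.isSeparated_of_grpObj G
  haveI : Mono n := Over.mono_of_mono_left n
  haveI : LocallyOfFiniteType N.hom := by rw [← Over.w n]; infer_instance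
  obtain ⟨Q, p, hp, hpb, hQ, -⟩ := QuotField20.exists_quotient_field n
  obtain ⟨_, hpm, hker⟩ := QuotField20.exists_grpObj_quotient n hp hpb hN
  haveI := hpm
  haveI := hp.surj
  haveI := hp.flat
  haveI := hQ
  haveI : CompactSpace G.left := (quasiCompact_iff_compactSpace G.hom).1 inferInstance
  haveI : CompactSpace Q.left := ⟨by
    rw [← (p.left.surjective).range_eq]
    exact isCompact_range p.left.continuous⟩
  haveI : QuasiCompact Q.hom := (quasiCompact_iff_compactSpace Q.hom).2 inferInstance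
  haveI : ConnectedSpace Q.left := p.left.surjective.connectedSpace p.left.continuous
  haveI := OrbitTop19.isReduced_of_smooth G.hom
  haveI : IsReduced Q.left := H12.isReduced_of_flat_surjective p.left
  haveI : Smooth Q.hom := GrpSmooth19.smooth_of_isReduced Q
  exact ⟨Q, inferInstance, p, hpm, hp.flat, hp.surj, qc_left p, hp.lfp, hker, inferInstance, inferInstance,
    inferInstance⟩

/-- Over an algebraically closed field a group of multiplicative type and finite type is diagonalisable. -/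
theorem exists_chars_of_isMultTypeFT {H : Over (Spec (CommRingCat.of k))} [GrpObj H]
    (hH : SGA3x.IsMultTypeFT H) :
    ∃ (N : Type) (_ : AddCommGroup N), AddGroup.FG N ∧ Nonempty (Chars N H) := by
  obtain ⟨A, _, _, j, -, hsplit, hft, ⟨e⟩⟩ := exists_model_ft hH (𝟙 (Spec (CommRingCat.of k)))
  haveI := hft
  obtain ⟨R', _, _, hEt, ⟨q, -⟩, N, _, hN, ⟨C₀⟩⟩ :=
    IsotrivialNormal.exists_etale_chars (isMultType_of_isSplit hsplit) (IsLocalRing.closedPoint k)
  haveI : Nontrivial R' := PrimeSpectrum.nontrivial q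
  obtain ⟨m, hm⟩ := Ideal.exists_maximal R'
  letI := Ideal.Quotient.field m
  haveI : Algebra.FiniteType k (R' ⧸ m) :=
    Algebra.FiniteType.of_surjective (Ideal.Quotient.mkₐ k m) Ideal.Quotient.mk_surjective
  haveI : Module.Finite k (R' ⧸ m) := finite_of_finite_type_of_isJacobsonRing k (R' ⧸ m)
  let eK : k ≃ₐ[k] R' ⧸ m := AlgEquiv.ofBijective (Algebra.ofId k (R' ⧸ m))
    IsAlgClosed.algebraMap_bijective_of_isIntegral
  let ρ : R' →ₐ[k] k := eK.symm.toAlgHom.comp (Ideal.Quotient.mkₐ k m)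
  let h := Spec.map (CommRingCat.ofHom (algebraMap k R'))
  let l := Spec.map (CommRingCat.ofHom ρ.toRingHom)
  have hl : l ≫ h = 𝟙 (Spec (CommRingCat.of k)) := by
    rw [← Spec.map_comp, ← CommRingCat.ofHom_comp, AlgHom.toRingHom_eq_coe, AlgHom.comp_algebraMap]
    exact Spec.map_id _
  have C₁ := charsComp h l (CoactBr.sp k A) (C₀.baseChange l _)
  rw [hl] at C₁
  obtain ⟨b₁⟩ := nonempty_bcId (CoactBr.sp k A)
  obtain ⟨b₂⟩ := nonempty_bcId H
  exact ⟨N, inferInstance, hN, ⟨(C₁.transport b₁.symm).transport (b₂.symm ≪≫ e.symm)⟩⟩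

/-- A closed subgroup of a diagonalisable group of finite type is diagonalisable. -/
theorem exists_chars_of_mono {H T : Over (Spec (CommRingCat.of k))} [GrpObj H] [GrpObj T]
    {M : Type} [AddCommGroup M] [AddGroup.FG M] (C : Chars M T) [LocallyOfFiniteType T.hom] (i : H ⟶ T) [IsMonHom i]
    [Mono i] [QuasiCompact H.hom] [LocallyOfFiniteType H.hom] :
    ∃ (N : Type) (_ : AddCommGroup N) (_ : AddGroup.FG N) (D : Chars N H) (φ : M →+ N),
      Function.Surjective φ ∧ i = mapChS D C φ := by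
  haveI := qc_left i
  haveI : IsClosedImmersion i.left := Groth.Agent.S3036.result k H T i
  have hH : SGA3x.IsMultTypeFT H := Groth.Agent.S19598.result H T (isMultTypeFT_of_chars C) i ‹_›
    inferInstance inferInstance
  obtain ⟨N, _, hN, ⟨D⟩⟩ := exists_chars_of_isMultTypeFT hH
  obtain ⟨φ, hφ⟩ := exists_mapChS_field D C i
  haveI : Mono (mapChS D C φ) := hφ ▸ inferInstance
  exact ⟨N, inferInstance, hN, D, φ, surjective_of_mono_mapChS D C φ, hφ⟩

/-- A map of character coordinates which is bijective gives an isomorphism. -/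
theorem isIso_mapChS {S : Scheme.{u}} {H₁ H₂ : Over S} [GrpObj H₁] [GrpObj H₂] {M₁ M₂ : Type} [AddCommGroup M₁]
    [AddCommGroup M₂] (C₁ : Chars M₁ H₁) (C₂ : Chars M₂ H₂) {φ : M₂ →+ M₁} (hφ : Function.Bijective φ) :
    IsIso (mapChS C₁ C₂ φ) := by
  let e := AddEquiv.ofBijective φ hφ
  refine ⟨mapChS C₂ C₁ e.symm.toAddMonoidHom, ?_, ?_⟩
  · rw [mapChS_comp, ← mapChS_id C₁]
    exact congrArg _ (AddMonoidHom.ext e.apply_symm_apply)
  · rw [mapChS_comp, ← mapChS_id C₂]
    exact congrArg _ (AddMonoidHom.ext e.symm_apply_apply)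

end Groth.Agent.CharTorus15
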