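import Groth.Agent.Lib.CharTorus15.Torus
import Groth.Agent.Lib.Weight4.DegRank
import Groth.Agent.Lib.AbRigid.SmoothGI
import Groth.Agent.Lib.MTRigid29.HomCases
import Groth.Agent.S17465
import Groth.Agent.S8023
import Groth.Prelude.Def_SGA7IX

/-!
# The kernel of the torus of characters
-/

set_option autoImplicit false
set_option linter.style.haveILetI false
set_option linter.unusedSectionVars false
set_option backward.isDefEq.respectTransparency false
set_option backward.isDefEq.respectTransparency.types false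
set_option maxSynthPendingDepth 3

universe u

open CategoryTheory CategoryTheory.Limits MonoidalCategory CartesianMonoidalCategory MonObj GrpObj AlgebraicGeometry

noncomputable section

namespace Groth.Agent.CharTorus15

open DiagGL MTRigid29

variable {k : Type u} [Field k] [IsAlgClosed k]

/-- A morphism from a reduced connected scheme with a point at the unit to a discrete group is trivial. -/
theorem eq_one_of_discrete {X F : Over (Spec (CommRingCat.of k))} [GrpObj F] [IsSeparated F.hom]
    [DiscreteTopology F.left] [IsReduced X.left] [PreconnectedSpace X.left] (f : X ⟶ F)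
    (e : 𝟙_ (Over (Spec (CommRingCat.of k))) ⟶ X) (he : e ≫ f = η[F]) : f = 1 := by
  haveI : IsClosedImmersion η[F].left := isClosedImmersion_of_comp_eq_id F.hom η[F].left (Over.w η[F])
  have hconst : ∀ x, f.left x = f.left (e.left (IsLocalRing.closedPoint k)) := fun x =>
    (isPreconnected_univ.image _ f.left.continuous.continuousOn).subsingleton
      (Set.mem_image_of_mem _ trivial) (Set.mem_image_of_mem _ trivial)
  obtain ⟨l, hl⟩ := RedSepLib.exists_lift_of_range_subset f.left η[F].left (by
    rintro _ ⟨x, rfl⟩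
    exact ⟨IsLocalRing.closedPoint k, by rw [hconst x, ← he]; rfl⟩)
  refine Over.OverMorphism.ext ?_
  have hh : l = X.hom := by
    have h1 : l ≫ η[F].left ≫ F.hom = X.hom := by rw [← Category.assoc, hl, Over.w f]
    rw [← h1, Over.w η[F]]
    exact (Category.comp_id _).symm
  rw [← hl, hh, Hom.one_def, Over.comp_left]
  rfl

/-- A group scheme of finite type with open unit point is finite. -/
theorem finite_of_isOpen_one {F : Over (Spec (CommRingCat.of k))} [GrpObj F] [LocallyOfFiniteType F.hom]
    [QuasiCompact F.hom] (h : IsOpen ({η[F].left (IsLocalRing.closedPoint k)} : Set F.left)) :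
    DiscreteTopology F.left ∧ IsFinite F.hom := by
  haveI : JacobsonSpace F.left := LocallyOfFiniteType.jacobsonSpace F.hom
  have hopen : ∀ z : F.left, IsClosed ({z} : Set F.left) → IsOpen ({z} : Set F.left) := fun z hz => by
    obtain ⟨g, hg⟩ : ∃ g : 𝟙_ (Over (Spec (CommRingCat.of k))) ⟶ F, g.left (IsLocalRing.closedPoint k) = z :=
      OrbitTop19.exists_point F z hz
    let τ := OrbitTop19.tr (OrbitTop19.mulAction F) g
    let τ' := OrbitTop19.tr (OrbitTop19.mulAction F) g⁻¹
    have hτ : η[F] ≫ τ = g := by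
      rw [OrbitTop19.comp_tr, toUnit_unique (toUnit (𝟙_ (Over (Spec (CommRingCat.of k))))) (𝟙 _), Category.id_comp]
      show g * η[F] = g
      rw [MonObj.one_eq_one, _root_.mul_one]
    have h1 : ∀ x, τ'.left (τ.left x) = x := fun x => by
      have h2 := congrArg (fun φ : F ⟶ F => φ.left x) (OrbitTop19.tr_inv (OrbitTop19.mulAction F) g)
      exact h2
    have h1' : ∀ x, τ.left (τ'.left x) = x := fun x => by
      have h2 := congrArg (fun φ : F ⟶ F => φ.left x) (OrbitTop19.inv_tr (OrbitTop19.mulAction F) g)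
      exact h2
    have he : τ.left (η[F].left (IsLocalRing.closedPoint k)) = z := by
      rw [← hg, ← hτ]; rfl
    have hpre : ({z} : Set F.left) = τ'.left ⁻¹' {η[F].left (IsLocalRing.closedPoint k)} := by
      ext x
      simp only [Set.mem_singleton_iff, Set.mem_preimage]
      constructor
      · rintro rfl; rw [← he, h1]
      · intro hx; rw [← h1' x, hx, he]
    rw [hpre]
    exact h.preimage τ'.left.continuous
  haveI hd : DiscreteTopology F.left := by
    refine discreteTopology_iff_isOpen_singleton.2 fun y => hopen y ?_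
    obtain ⟨z, hz1, hz2⟩ : (closure ({y} : Set F.left) ∩ closedPoints F.left).Nonempty :=
      nonempty_inter_closedPoints ⟨y, subset_closure rfl⟩ isClosed_closure.isLocallyClosed
    obtain ⟨w, hw, hw'⟩ := mem_closure_iff.1 hz1 {z} (hopen z hz2) rfl
    rwa [← (show w = y from hw'), show w = z from hw]
  haveI : CompactSpace F.left := (quasiCompact_iff_compactSpace F.hom).1 inferInstance
  haveI : Finite F.left := finite_of_compact_of_discrete
  haveI : LocallyQuasiFinite F.hom :=
    locallyQuasiFinite_iff_finite_preimage_singleton.2 fun _ => Set.toFinite _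
  exact ⟨hd, Groth.Agent.DegRank.isFinite_of_finite F.hom⟩

variable {G : Over (Spec (CommRingCat.of k))} [GrpObj G] [Smooth G.hom] [QuasiCompact G.hom]
  [ConnectedSpace ↥G.left]
  {r : ℕ} {CT : Chars (Fin r → ℤ) (Red.DS (Spec (CommRingCat.of k)) (Fin r → ℤ))}
  {CG : Chars ℤ (Red.Gm (Spec (CommRingCat.of k)))}
  {q : G ⟶ Red.DS (Spec (CommRingCat.of k)) (Fin r → ℤ)}
  {K : Over (Spec (CommRingCat.of k))} [GrpObj K] {n : K ⟶ G}

/-- The kernel of the homomorphism to the torus of characters is smooth and connected. -/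
theorem smooth_connected_kernel [IsMonHom q] [IsMonHom n] [IsClosedImmersion n.left] (hn : AlgGrp.IsKernel n q)
    (huniv : ∀ χ : G ⟶ Red.Gm (Spec (CommRingCat.of k)), IsMonHom χ →
      ∃ a, q ≫ mapChS CT CG (zmultiplesHom (Fin r → ℤ) a) = χ)
    (hinj : ∀ a, q ≫ mapChS CT CG (zmultiplesHom (Fin r → ℤ) a) = 1 → a = 0) :
    Smooth K.hom ∧ ConnectedSpace K.left := by
  haveI hTaff : IsAffine (Red.DS (Spec (CommRingCat.of k)) (Fin r → ℤ)).left := TorPts21.isAffine_of_chars CT
  haveI : Smooth (Red.DS (Spec (CommRingCat.of k)) (Fin r → ℤ)).hom := TorPts21.smooth_of_chars CT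
  haveI : IrreducibleSpace (Red.DS (Spec (CommRingCat.of k)) (Fin r → ℤ)).left := TorPts21.irreducibleSpace_of_chars CT
  obtain ⟨hqf, hqs, hqq⟩ := flat_surjective hinj
  haveI := hqf; haveI := hqs; haveI := hqq
  haveI : IsSeparated G.hom := AbRigid.isSeparated_of_grpObj G
  haveI : Mono n := Over.mono_of_mono_left n
  haveI : LocallyOfFiniteType K.hom := by rw [← Over.w n]; infer_instance
  haveI : CompactSpace G.left := (quasiCompact_iff_compactSpace G.hom).1 inferInstance
  haveI : CompactSpace K.left := n.left.isClosedEmbedding.compactSpace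
  -- the reduced identity component
  obtain ⟨Kr, _, ρ, hρm, hρc, hρs, hKred, hKsm⟩ := BorelFix21.exists_reduced_subgroup K
  haveI := hρm; haveI := hρc; haveI := hρs; haveI := hKred; haveI := hKsm
  haveI : Mono ρ := Over.mono_of_mono_left ρ
  haveI : CompactSpace Kr.left := ρ.left.isClosedEmbedding.compactSpace
  obtain ⟨K₀, _, j, hjm, hjo, hK₀c⟩ := BorelFix21.exists_identity_component Kr
  haveI := hjm; haveI := hjo; haveI := hK₀c
  haveI : Mono j := Over.mono_of_mono_left j
  haveI : IsClosedImmersion j.left :=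
    IsClosedImmersion.of_isPreimmersion _ (AbRigid.isClosed_range_of_isOpen j j.left.isOpenEmbedding.isOpen_range)
  haveI : Smooth K₀.hom := by rw [← Over.w j]; infer_instance
  haveI : CompactSpace K₀.left := j.left.isClosedEmbedding.compactSpace
  haveI : QuasiCompact K₀.hom := (quasiCompact_iff_compactSpace K₀.hom).2 inferInstance
  let ι₀ : K₀ ⟶ K := j ≫ ρ
  let n₀ : K₀ ⟶ G := ι₀ ≫ n
  haveI : IsMonHom ι₀ := inferInstanceAs (IsMonHom (j ≫ ρ))
  haveI : IsMonHom n₀ := inferInstanceAs (IsMonHom (ι₀ ≫ n))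
  haveI : IsClosedImmersion n₀.left := by
    show IsClosedImmersion ((j.left ≫ ρ.left) ≫ n.left)
    infer_instance
  haveI := UnitsRos.isIntegral_of_group K₀
  haveI := UnitsRos.isIntegral_of_group G
  haveI := AbRigid.geometricallyReduced_of_smooth G.hom
  haveI := AbRigid.geometricallyReduced_of_smooth K₀.hom
  haveI : GeometricallyIntegral G.hom := AbRigid.geometricallyIntegral_of_connected G
  haveI : GeometricallyIntegral K₀.hom := AbRigid.geometricallyIntegral_of_connected K₀
  -- normality
  have hN : AlgGrp.IsNormalHom n₀ := by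
    let c : G ⊗ K₀ ⟶ G := fst G K₀ * (snd G K₀ ≫ n₀) * (fst G K₀)⁻¹
    haveI : GeometricallyIntegral (G ⊗ K₀).hom := AbRigid.geometricallyIntegral_tensorObj G K₀
    haveI : IsIntegral (G ⊗ K₀).left := GeometricallyIntegral.isIntegral_of_subsingleton (G ⊗ K₀).hom
    obtain ⟨cK, hcK⟩ := exists_lift hn c (by
      simp only [c, MonObj.mul_comp, GrpObj.inv_comp, Category.assoc, n₀, comp_eq_one hn, MonObj.comp_one,
        _root_.mul_one, mul_inv_cancel])
    obtain ⟨cr, hcr⟩ := PerfProd19.exists_lift_of_surjective ρ cK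
    have h0 : lift η[G] η[K₀] ≫ c = η[G] := by
      simp only [c, MonObj.comp_mul, GrpObj.comp_inv, lift_fst, lift_snd_assoc, MonObj.one_eq_one,
        MonObj.one_comp, inv_one, _root_.mul_one]
    have h1 : lift η[G] η[K₀] ≫ cr = η[Kr] := by
      rw [← cancel_mono ρ, ← cancel_mono n]
      simp only [Category.assoc]
      rw [reassoc_of% hcr, hcK, h0]
      simp [IsMonHom.one_hom]
    have hU : IsClosed (Set.range j.left) ∧ IsOpen (Set.range j.left) :=
      ⟨j.left.isClosedEmbedding.isClosed_range, j.left.isOpenEmbedding.isOpen_range⟩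
    have hsub : Set.range cr.left ⊆ Set.range j.left := by
      let p₀ : (G ⊗ K₀).left := (lift η[G] η[K₀]).left (IsLocalRing.closedPoint k)
      have hmem : cr.left p₀ ∈ Set.range j.left := by
        refine ⟨η[K₀].left (IsLocalRing.closedPoint k), ?_⟩
        have e1 : η[K₀] ≫ j = lift η[G] η[K₀] ≫ cr := by rw [IsMonHom.one_hom, h1]
        exact congrArg (fun φ : 𝟙_ (Over (Spec (CommRingCat.of k))) ⟶ Kr => φ.left (IsLocalRing.closedPoint k)) e1
      rintro _ ⟨x, rfl⟩
      exact ((IsClopen.preimage ⟨hU.1, hU.2⟩ cr.left.continuous).eq_univ ⟨p₀, hmem⟩).ge (Set.mem_univ x)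
    let c₀ : G ⊗ K₀ ⟶ K₀ := Over.homMk (IsOpenImmersion.lift j.left cr.left hsub) (by
      rw [← Over.w j, ← Category.assoc, IsOpenImmersion.lift_fac, Over.w cr])
    have hc₀ : c₀ ≫ n₀ = c := by
      have : c₀ ≫ j = cr := Over.OverMorphism.ext (IsOpenImmersion.lift_fac _ _ _)
      rw [show n₀ = j ≫ ρ ≫ n from Category.assoc _ _ _, reassoc_of% this, reassoc_of% hcr, hcK]
    intro T g x
    refine ⟨lift g x ≫ c₀, ?_⟩
    rw [Category.assoc, hc₀]
    simp only [c, MonObj.comp_mul, GrpObj.comp_inv, lift_fst, lift_snd_assoc]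
  obtain ⟨G₁, _, p, hpm, hpf, hps, hpq, hpl, hker₁, hG₁s, hG₁q, hG₁c⟩ := exists_quotient n₀ hN
  haveI := hpm; haveI := hpf; haveI := hps; haveI := hpq; haveI := hpl; haveI := hG₁s; haveI := hG₁q
  haveI := hG₁c
  obtain ⟨f, hfm, hf⟩ := desc_hom n₀ p hker₁ q (by
    rw [show n₀ = ι₀ ≫ n from rfl, Category.assoc, comp_eq_one hn, MonObj.comp_one])
  haveI := hfm
  haveI : Surjective f.left := by
    haveI : Surjective (p.left ≫ f.left) := by rw [← Over.comp_left, hf]; infer_instance
    exact Surjective.of_comp p.left f.left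
  haveI : Flat f.left := by
    haveI : Flat (p.left ≫ f.left) := by rw [← Over.comp_left, hf]; infer_instance
    exact AlgSpDescent.flat_of_comp_flat_surjective p.left f.left
  obtain ⟨F, _, m, hmm, hmc, hF⟩ := exists_kernel f
  haveI := hmm; haveI := hmc
  haveI : Mono m := Over.mono_of_mono_left m
  haveI : IsSeparated G₁.hom := AbRigid.isSeparated_of_grpObj G₁
  haveI : IsSeparated F.hom := by rw [← Over.w m]; infer_instance
  haveI : LocallyOfFiniteType F.hom := by rw [← Over.w m]; infer_instance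
  haveI : CompactSpace G₁.left := (quasiCompact_iff_compactSpace G₁.hom).1 inferInstance
  haveI : CompactSpace F.left := m.left.isClosedEmbedding.compactSpace
  haveI : QuasiCompact F.hom := (quasiCompact_iff_compactSpace F.hom).2 inferInstance
  obtain ⟨s, hs⟩ := exists_lift hF (n ≫ p) (by rw [Category.assoc, hf, comp_eq_one hn])
  have hsq : IsPullback n s p m := by
    have hn' : IsPullback n (s ≫ toUnit F) (p ≫ f) η[_] := by
      rw [toUnit_unique (s ≫ toUnit F) (toUnit K), hf]; exact hn
    exact IsPullback.of_bot hn' hs.symm hF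
  have hsq' : IsPullback n.left s.left p.left m.left := hsq.map (Over.forget _)
  haveI : Flat s.left := MorphismProperty.of_isPullback (P := @Flat) hsq' inferInstance
  haveI : Surjective s.left := MorphismProperty.of_isPullback (P := @Surjective) hsq' inferInstance
  haveI : LocallyOfFinitePresentation s.left :=
    MorphismProperty.of_isPullback (P := @LocallyOfFinitePresentation) hsq' inferInstance
  have hι : ι₀ ≫ s = toUnit K₀ ≫ η[F] := by
    rw [← cancel_mono m, Category.assoc, hs, ← Category.assoc, show ι₀ ≫ n = n₀ from rfl, comp_eq_one hker₁,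
      Category.assoc, IsMonHom.one_hom, Hom.one_def]
  have hopen : IsOpen ({η[F].left (IsLocalRing.closedPoint k)} : Set F.left) := by
    have himg : s.left '' (ρ.left '' Set.range j.left) = {η[F].left (IsLocalRing.closedPoint k)} := by
      rw [← Set.range_comp, ← Set.range_comp]
      have hpt : ∀ x, s.left (ρ.left (j.left x)) = η[F].left (IsLocalRing.closedPoint k) := fun x => by
        have h := congrArg (fun φ : K₀ ⟶ F => φ.left x) hι
        refine h.trans ?_
        show η[F].left ((toUnit K₀).left x) = _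
        exact congrArg _ (Subsingleton.elim (α := PrimeSpectrum k) _ _)
      ext y
      refine ⟨?_, fun hy => ⟨η[K₀].left (IsLocalRing.closedPoint k), ?_⟩⟩
      · rintro ⟨x, rfl⟩; exact hpt x
      · exact (hpt _).trans (Set.mem_singleton_iff.1 hy).symm
    rw [← himg]
    have hρh : IsOpenMap ρ.left :=
      ((ρ.left.isClosedEmbedding.isEmbedding.toHomeomorphOfSurjective ρ.left.surjective).isOpenMap)
    exact s.left.isOpenMap _ (hρh _ j.left.isOpenEmbedding.isOpen_range)
  obtain ⟨hFd, hFfin⟩ := finite_of_isOpen_one hopen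
  haveI := hFd; haveI := hFfin
  haveI : IsAffine F.left := isAffine_of_isAffineHom F.hom
  haveI : IsAffineHom f.left := AttrBorel21.isAffineHom_of_kernel m f hF
  haveI : IsAffine G₁.left := isAffine_of_isAffineHom f.left
  haveI := AbRigid.geometricallyReduced_of_smooth G₁.hom
  haveI : GeometricallyIntegral G₁.hom := AbRigid.geometricallyIntegral_of_connected G₁
  have hcommT : ∀ (X : Over (Spec (CommRingCat.of k))) (a b : X ⟶ Red.DS (Spec (CommRingCat.of k)) (Fin r → ℤ)),
      a * b = b * a := fun X a b => TorPts21.commute_of_chars CT a b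
  have hcomm : ∀ (X : Over (Spec (CommRingCat.of k))) (a b : X ⟶ G₁), a * b = b * a := by
    haveI : GeometricallyIntegral (G₁ ⊗ G₁).hom := AbRigid.geometricallyIntegral_tensorObj G₁ G₁
    haveI : IsIntegral (G₁ ⊗ G₁).left := GeometricallyIntegral.isIntegral_of_subsingleton (G₁ ⊗ G₁).hom
    let a₀ := fst G₁ G₁
    let b₀ := snd G₁ G₁
    obtain ⟨w, hw⟩ := exists_lift hF (a₀ * b₀ * a₀⁻¹ * b₀⁻¹) (by
      simp only [MonObj.mul_comp, GrpObj.inv_comp]
      rw [hcommT _ (a₀ ≫ f) (b₀ ≫ f)]
      group)
    have hw1 : w = 1 := eq_one_of_discrete w (lift η[G₁] η[G₁]) (by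
      rw [← cancel_mono m, Category.assoc, hw, IsMonHom.one_hom]
      simp [a₀, b₀, MonObj.comp_mul, GrpObj.comp_inv, MonObj.one_eq_one])
    rw [hw1, MonObj.one_comp, eq_comm, mul_inv_eq_one, mul_inv_eq_iff_eq_mul] at hw
    intro X a b
    have h := congrArg (lift a b ≫ ·) hw
    simpa [a₀, b₀, MonObj.comp_mul] using h
  haveI : IsCommMonObj G₁ := ⟨by
    have h := hcomm _ (snd G₁ G₁) (fst G₁ G₁)
    rw [Hom.mul_def, Hom.mul_def, lift_fst_snd, Category.id_comp] at h
    rw [← h]
    congr 1⟩
  haveI : IsCommMonObj (Red.DS (Spec (CommRingCat.of k)) (Fin r → ℤ)) := ⟨by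
    have h := hcommT _ (snd _ _) (fst (Red.DS (Spec (CommRingCat.of k)) (Fin r → ℤ))
      (Red.DS (Spec (CommRingCat.of k)) (Fin r → ℤ)))
    rw [Hom.mul_def, Hom.mul_def, lift_fst_snd, Category.id_comp] at h
    rw [← h]
    congr 1⟩
  haveI : QuasiCompact (Red.DS (Spec (CommRingCat.of k)) (Fin r → ℤ)).hom := inferInstance
  have hT₁ : Red.IsTorus G₁ :=
    (Groth.Agent.S17465.result k G₁ (Red.DS (Spec (CommRingCat.of k)) (Fin r → ℤ)) f ⟨inferInstance, fun N i hi => by
      let e : N ≅ F := (hi : IsPullback i (toUnit N) f η[_]).isoIsPullback G₁ (𝟙_ _) hF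
      haveI : IsIso e.hom.left := inferInstanceAs (IsIso ((Over.forget _).map e.hom))
      rw [← Over.w e.hom]
      infer_instance⟩).2 (TorPts21.isTorus_of_chars CT)
  obtain ⟨d, ⟨D⟩⟩ := TorPts21.exists_chars hT₁
  haveI := isIso_of_factor huniv hinj D p f hf
  -- hence `n₀` is the kernel
  obtain ⟨t, ht⟩ := exists_lift hker₁ n (by
    rw [← cancel_mono f, Category.assoc, hf, comp_eq_one hn, MonObj.one_comp])
  haveI : Mono n₀ := Over.mono_of_mono_left n₀
  haveI : IsIso ι₀ := ⟨t, (cancel_mono n₀).1 (by rw [Category.assoc, ht, Category.id_comp]),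
    (cancel_mono n).1 (by rw [Category.assoc, show ι₀ ≫ n = n₀ from rfl, ht, Category.id_comp])⟩
  haveI : IsIso ι₀.left := inferInstanceAs (IsIso ((Over.forget _).map ι₀))
  refine ⟨?_, ι₀.left.homeomorph.connectedSpace_iff.1 inferInstance⟩
  rw [← Over.w (inv ι₀)]
  infer_instance

/-- A smooth connected kernel of the homomorphism to the torus of characters has no characters. -/
theorem char_kernel_eq_one [IsMonHom q] [IsMonHom n] [IsClosedImmersion n.left] [Smooth K.hom]
    [ConnectedSpace K.left] (hn : AlgGrp.IsKernel n q)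
    (huniv : ∀ χ : G ⟶ Red.Gm (Spec (CommRingCat.of k)), IsMonHom χ →
      ∃ a, q ≫ mapChS CT CG (zmultiplesHom (Fin r → ℤ) a) = χ)
    (hinj : ∀ a, q ≫ mapChS CT CG (zmultiplesHom (Fin r → ℤ) a) = 1 → a = 0)
    (ψ : K ⟶ Red.Gm (Spec (CommRingCat.of k))) [IsMonHom ψ] : ψ = 1 := by
  haveI hTaff : IsAffine (Red.DS (Spec (CommRingCat.of k)) (Fin r → ℤ)).left := TorPts21.isAffine_of_chars CT
  haveI : Smooth (Red.DS (Spec (CommRingCat.of k)) (Fin r → ℤ)).hom := TorPts21.smooth_of_chars CT
  haveI : IsAffineHom (Red.Gm (Spec (CommRingCat.of k))).hom := MTRigid29.isAffineHom_DS _ ℤ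
  haveI : IsAffine (Red.Gm (Spec (CommRingCat.of k))).left := isAffine_of_isAffineHom (Red.Gm _).hom
  haveI : LocallyOfFiniteType (Red.Gm (Spec (CommRingCat.of k))).hom := by
    haveI := MTRigid29.lfp_of_isMultTypeFT (isMultTypeFT_of_chars CG)
    infer_instance
  obtain ⟨hqf, hqs, hqq⟩ := flat_surjective hinj
  haveI := hqf; haveI := hqs; haveI := hqq
  haveI : Mono n := Over.mono_of_mono_left n
  haveI : IsSeparated G.hom := AbRigid.isSeparated_of_grpObj G
  haveI : IsSeparated K.hom := AbRigid.isSeparated_of_grpObj K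
  haveI : CompactSpace G.left := (quasiCompact_iff_compactSpace G.hom).1 inferInstance
  haveI : CompactSpace K.left := n.left.isClosedEmbedding.compactSpace
  haveI : QuasiCompact K.hom := (quasiCompact_iff_compactSpace K.hom).2 inferInstance
  haveI := UnitsRos.isIntegral_of_group K
  -- conjugation invariance
  obtain ⟨c, hc⟩ := exists_lift hn (fst G K * (snd G K ≫ n) * (fst G K)⁻¹) (by
    simp only [MonObj.mul_comp, GrpObj.inv_comp, Category.assoc, comp_eq_one hn, MonObj.comp_one, _root_.mul_one,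
      mul_inv_cancel])
  have hinv : c ≫ ψ = snd G K ≫ ψ := by
    refine chars_int_eq CG ?_
    obtain ⟨χ, w, -, heχ, -, -, hχw⟩ := UnitsRos.exists_char_mul G K ((Group.isUnit g₁).map (CG.ch (c ≫ ψ)))
    have E : ∀ {T : Over (Spec (CommRingCat.of k))} (g : T ⟶ G) (x : T ⟶ K),
        CG.ch ((lift g x ≫ c) ≫ ψ) g₁ = g.left.appTop χ * x.left.appTop w := fun {T} g x => by
      rw [Category.assoc, CG.nat, hχw, map_mul, ← UnitsRos.appTop_comp, ← UnitsRos.appTop_comp, lift_fst, lift_snd]
    have hc1 : ∀ {T : Over (Spec (CommRingCat.of k))} (x : T ⟶ K), lift 1 x ≫ c = x := fun x =>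
      (cancel_mono n).1 (by
        rw [Category.assoc, hc, MonObj.comp_mul, MonObj.comp_mul, GrpObj.comp_inv, lift_fst, lift_snd_assoc,
          inv_one, _root_.mul_one, _root_.one_mul])
    have hc2 : ∀ {T : Over (Spec (CommRingCat.of k))} (g : T ⟶ G), lift g (1 : T ⟶ K) ≫ c = 1 := fun g =>
      (cancel_mono n).1 (by
        rw [Category.assoc, hc, MonObj.comp_mul, MonObj.comp_mul, GrpObj.comp_inv, lift_fst, lift_snd_assoc,
          MonObj.one_comp, _root_.mul_one, mul_inv_cancel])
    have hone : ∀ T : Over (Spec (CommRingCat.of k)), (1 : T ⟶ G).left.appTop χ = 1 := fun T => by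
      rw [Hom.one_def, UnitsRos.appTop_comp, heχ, map_one]
    have h1 : ∀ {T : Over (Spec (CommRingCat.of k))} (x : T ⟶ K), x.left.appTop w = CG.ch (x ≫ ψ) g₁ :=
      fun {T} x => by
      have := E 1 x
      rw [hc1, hone, _root_.one_mul] at this
      exact this.symm
    have h2 : ∀ {T : Over (Spec (CommRingCat.of k))} (g : T ⟶ G), g.left.appTop χ = 1 := fun {T} g => by
      have := E g 1
      rw [hc2, h1, MonObj.one_comp, CG.one, _root_.mul_one] at this
      exact this.symm
    have h3 := E (fst G K) (snd G K)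
    rw [lift_fst_snd, Category.id_comp, h2, h1, _root_.one_mul] at h3
    exact h3
  obtain ⟨W, _, w₀, hwm, hwc, hw⟩ := exists_kernel ψ
  haveI := hwm; haveI := hwc
  let n₁ : W ⟶ G := w₀ ≫ n
  haveI : IsMonHom n₁ := inferInstanceAs (IsMonHom (w₀ ≫ n))
  haveI : IsClosedImmersion n₁.left := by
    show IsClosedImmersion (w₀.left ≫ n.left)
    infer_instance
  have hN : AlgGrp.IsNormalHom n₁ := fun T g x => by
    let y := lift g (x ≫ w₀) ≫ c
    have hyn : y ≫ n = g * (x ≫ n₁) * g⁻¹ := by
      simp only [y, Category.assoc, hc, MonObj.comp_mul, GrpObj.comp_inv, lift_fst, lift_snd_assoc, n₁]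
    obtain ⟨x', hx'⟩ := exists_lift hw y (by
      simp only [y, Category.assoc, hinv, lift_snd_assoc, comp_eq_one hw, MonObj.comp_one])
    exact ⟨x', by rw [show x' ≫ n₁ = (x' ≫ w₀) ≫ n from (Category.assoc _ _ _).symm, hx', hyn]⟩
  obtain ⟨G₂, _, p, hpm, hpf, hps, hpq, hpl, hker₂, hG₂s, hG₂q, hG₂c⟩ := exists_quotient n₁ hN
  haveI := hpm; haveI := hpf; haveI := hps; haveI := hpq; haveI := hpl; haveI := hG₂s; haveI := hG₂q
  haveI := hG₂c
  obtain ⟨f, hfm, hf⟩ := desc_hom n₁ p hker₂ q (by
    rw [show n₁ = w₀ ≫ n from rfl, Category.assoc, comp_eq_one hn, MonObj.comp_one])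
  haveI := hfm
  haveI : Surjective f.left := by
    haveI : Surjective (p.left ≫ f.left) := by rw [← Over.comp_left, hf]; infer_instance
    exact Surjective.of_comp p.left f.left
  haveI : Flat f.left := by
    haveI : Flat (p.left ≫ f.left) := by rw [← Over.comp_left, hf]; infer_instance
    exact AlgSpDescent.flat_of_comp_flat_surjective p.left f.left
  obtain ⟨H', _, m, hmm, hmc, hH'⟩ := exists_kernel f
  haveI := hmm; haveI := hmc
  haveI : Mono m := Over.mono_of_mono_left m
  haveI : CompactSpace G₂.left := (quasiCompact_iff_compactSpace G₂.hom).1 inferInstance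
  haveI : CompactSpace H'.left := m.left.isClosedEmbedding.compactSpace
  haveI : QuasiCompact H'.hom := (quasiCompact_iff_compactSpace H'.hom).2 inferInstance
  haveI : LocallyOfFiniteType H'.hom := by rw [← Over.w m]; infer_instance
  obtain ⟨s, hs⟩ := exists_lift hH' (n ≫ p) (by rw [Category.assoc, hf, comp_eq_one hn])
  have hsq : IsPullback n s p m := by
    have hn' : IsPullback n (s ≫ toUnit H') (p ≫ f) η[_] := by
      rw [toUnit_unique (s ≫ toUnit H') (toUnit K), hf]; exact hn
    exact IsPullback.of_bot hn' hs.symm hH'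
  have hsq' : IsPullback n.left s.left p.left m.left := hsq.map (Over.forget _)
  haveI : Flat s.left := MorphismProperty.of_isPullback (P := @Flat) hsq' inferInstance
  haveI : Surjective s.left := MorphismProperty.of_isPullback (P := @Surjective) hsq' inferInstance
  haveI : QuasiCompact s.left := MorphismProperty.of_isPullback (P := @QuasiCompact) hsq' inferInstance
  haveI : IsMonHom s := TorsorSch25.isMonHom_of_points _ fun T a b => (cancel_mono m).1 (by
    simp only [MonObj.mul_comp, Category.assoc, hs])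
  have hwker : AlgGrp.IsKernel w₀ s := by
    have hw1 : w₀ ≫ s = toUnit W ≫ η[H'] := (cancel_mono m).1 (by
      rw [Category.assoc, hs, ← Category.assoc, show w₀ ≫ n = n₁ from rfl, comp_eq_one hker₂, Category.assoc,
        IsMonHom.one_hom, Hom.one_def])
    have hbig : IsPullback (w₀ ≫ n) (toUnit W) p (η[H'] ≫ m) := by rw [IsMonHom.one_hom]; exact hker₂
    exact IsPullback.of_right hbig hw1 hsq
  obtain ⟨ψ', hψ'm, hψ'⟩ := desc_hom w₀ s hwker ψ (comp_eq_one hw)
  haveI := hψ'm
  haveI : Mono ψ' := ⟨fun {T} a b hab => by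
    have h : (a * b⁻¹) ≫ ψ' = 1 := by rw [MonObj.mul_comp, GrpObj.inv_comp, hab, mul_inv_cancel]
    let T' : Over (Spec (CommRingCat.of k)) := Over.mk (pullback.fst (a * b⁻¹).left s.left ≫ T.hom)
    let π : T' ⟶ T := Over.homMk (pullback.fst (a * b⁻¹).left s.left) rfl
    let g : T' ⟶ K := Over.homMk (pullback.snd (a * b⁻¹).left s.left) (by
      show _ ≫ K.hom = pullback.fst _ _ ≫ T.hom
      rw [← Over.w s, ← Category.assoc, ← pullback.condition, Category.assoc, Over.w (a * b⁻¹)])
    have hg : g ≫ s = π ≫ (a * b⁻¹) := Over.OverMorphism.ext pullback.condition.symm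
    haveI : Flat π.left := inferInstanceAs (Flat (pullback.fst _ _))
    haveI : Surjective π.left := inferInstanceAs (Surjective (pullback.fst _ _))
    haveI : QuasiCompact π.left := inferInstanceAs (QuasiCompact (pullback.fst _ _))
    haveI := MTExt29.epi_of_cover π
    obtain ⟨y, hy⟩ := exists_lift hw g (by rw [← hψ', ← Category.assoc, hg, Category.assoc, h, MonObj.comp_one])
    have : π ≫ (a * b⁻¹) = π ≫ 1 := by
      rw [← hg, ← hy, Category.assoc, comp_eq_one hwker, MonObj.comp_one, MonObj.comp_one]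
    exact mul_inv_eq_one.1 ((cancel_epi π).1 this)⟩
  obtain ⟨N', _, _, D', φ', -, -⟩ := exists_chars_of_mono CG ψ'
  haveI : IsAffineHom H'.hom := MTRigid29.isAffineHom_of_chars D'
  haveI : IsAffine H'.left := isAffine_of_isAffineHom H'.hom
  haveI : IsAffineHom f.left := AttrBorel21.isAffineHom_of_kernel m f hH'
  haveI : IsAffine G₂.left := isAffine_of_isAffineHom f.left
  haveI : AddGroup.FG (Fin r → ℤ) := AddGroup.fg_iff_addMonoid_fg.2 inferInstance
  haveI : IsClosedImmersion (𝟙 G₂ : G₂ ⟶ G₂).left := by rw [Over.id_left]; infer_instance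
  have hmt : SGA3x.IsMultTypeFT G₂ := (Groth.Agent.S8023.result k G₂ G₂ H'
    (Red.DS (Spec (CommRingCat.of k)) (Fin r → ℤ)) (𝟙 G₂) (fun T g x => ⟨g * x * g⁻¹, by simp⟩) m
    (isNormal_of_isKernel hH') m (Category.comp_id m) f hH' (isMultTypeFT_of_chars D') (isMultTypeFT_of_chars CT)).2
  obtain ⟨N, _, _, ⟨D⟩⟩ := exists_chars_of_isMultTypeFT hmt
  haveI := isIso_of_factor huniv hinj D p f hf
  have hm1 : m = 1 := (cancel_mono f).1 (by rw [comp_eq_one hH', MonObj.one_comp])
  have hs1 : s = 1 := (cancel_mono m).1 (by rw [hm1, MonObj.comp_one, MonObj.comp_one])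
  rw [← hψ', hs1, MonObj.one_comp]

end Groth.Agent.CharTorus15
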