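import Groth.Agent.Lib.CharTorus15.Basic
import Groth.Agent.S16113

/-!
# The torus of characters of a connected group
-/

set_option autoImplicit false
set_option linter.style.haveILetI false
set_option backward.isDefEq.respectTransparency false
set_option backward.isDefEq.respectTransparency.types false
set_option maxSynthPendingDepth 3

universe u

open CategoryTheory CategoryTheory.Limits MonoidalCategory CartesianMonoidalCategory MonObj GrpObj AlgebraicGeometry

noncomputable section

namespace Groth.Agent.CharTorus15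

open DiagGL MTRigid29

variable {k : Type u} [Field k]

/-- The tautological generator of the characters of `𝔾_m`. -/
abbrev g₁ : Multiplicative ℤ := Multiplicative.ofAdd (1 : ℤ)

theorem chars_int_eq {S : Scheme.{u}} {T Z : Over S} [GrpObj Z] (C : Chars ℤ Z) {a b : T ⟶ Z}
    (h : C.ch a g₁ = C.ch b g₁) : a = b :=
  C.inj fun c => DFunLike.congr_fun (MonoidHom.ext_mint h) c

/-- Over a field the homomorphisms given by characters determine the characters. -/
theorem eq_zero_of_mapChS_eq_one {H Z : Over (Spec (CommRingCat.of k))} [GrpObj H] [GrpObj Z] {N : Type}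
    [AddCommGroup N] (D : Chars N H) (CZ : Chars ℤ Z) {b : N} (h : mapChS D CZ (zmultiplesHom N b) = 1) : b = 0 := by
  let A := MonoidAlgebra k (Multiplicative N)
  let T := CoactBr.sp k A
  obtain ⟨x, hx⟩ := D.surj (T := T)
    ((RingHom.toMonoidHom (Scheme.ΓSpecIso (CommRingCat.of A)).inv.hom : A →* Γ(T.left, ⊤)).comp (MonoidAlgebra.of k (Multiplicative N)))
  have h1 : D.ch x (Multiplicative.ofAdd b) = 1 := by
    have h2 := ch_mapChS D CZ (zmultiplesHom N b) x g₁
    rw [h, MonObj.comp_one, CZ.one] at h2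
    rw [h2]
    exact congrArg _ (congrArg Multiplicative.ofAdd (one_zsmul b).symm)
  rw [hx] at h1
  have h3 : MonoidAlgebra.of k (Multiplicative N) (Multiplicative.ofAdd b) = 1 := by
    have h4 := congrArg (Scheme.ΓSpecIso (CommRingCat.of A)).hom.hom h1
    rw [map_one] at h4
    exact ((Scheme.ΓSpecIso (CommRingCat.of A)).inv_hom_id_apply _).symm.trans h4
  exact congrArg Multiplicative.toAdd (MonoidAlgebra.of_injective (h3.trans (map_one _).symm))

variable [IsAlgClosed k] {G : Over (Spec (CommRingCat.of k))} [GrpObj G] [Smooth G.hom] [QuasiCompact G.hom]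
  [ConnectedSpace ↥G.left]

/-- The characters of a connected group come from one homomorphism to a split torus. -/
theorem exists_hom_torus (CG : Chars ℤ (Red.Gm (Spec (CommRingCat.of k)))) :
    ∃ (r : ℕ) (CT : Chars (Fin r → ℤ) (Red.DS (Spec (CommRingCat.of k)) (Fin r → ℤ)))
      (q : G ⟶ Red.DS (Spec (CommRingCat.of k)) (Fin r → ℤ)), IsMonHom q ∧
      (∀ χ : G ⟶ Red.Gm (Spec (CommRingCat.of k)), IsMonHom χ →
        ∃ a, q ≫ mapChS CT CG (zmultiplesHom (Fin r → ℤ) a) = χ) ∧
      ∀ a, q ≫ mapChS CT CG (zmultiplesHom (Fin r → ℤ) a) = 1 → a = 0 := by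
  classical
  haveI := UnitsRos.isIntegral_of_group G
  haveI : IsSeparated G.hom := AbRigid.isSeparated_of_grpObj G
  obtain ⟨r, v, hv, hker⟩ := Groth.Agent.S16113.result k G
  let cst : k →+* Γ(G.left, ⊤) := ((Scheme.ΓSpecIso (CommRingCat.of k)).inv ≫ G.hom.appTop).hom
  let M := Fin r → ℤ
  let CT := charsDS (Spec (CommRingCat.of k)) M
  let eU : Γ(G.left, ⊤)ˣ →* Γ((𝟙_ (Over (Spec (CommRingCat.of k)))).left, ⊤)ˣ :=
    Units.map η[G].left.appTop.hom.toMonoidHom
  let back : Γ((𝟙_ (Over (Spec (CommRingCat.of k)))).left, ⊤)ˣ →* Γ(G.left, ⊤)ˣ :=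
    Units.map (toUnit G).left.appTop.hom.toMonoidHom
  let nm : Γ(G.left, ⊤)ˣ →* Γ(G.left, ⊤)ˣ := (MonoidHom.id _) * (back.comp eU)⁻¹
  have hback : ∀ z : Γ((𝟙_ (Over (Spec (CommRingCat.of k)))).left, ⊤)ˣ, v (back z) = 1 := fun z => by
    rw [← MonoidHom.mem_ker, hker]
    refine ⟨Units.map ((Scheme.ΓSpecIso (CommRingCat.of k)).hom.hom.toMonoidHom) z, Units.ext ?_⟩
    show cst ((Scheme.ΓSpecIso (CommRingCat.of k)).hom z.1) = (toUnit G).left.appTop z.1
    show G.hom.appTop ((Scheme.ΓSpecIso (CommRingCat.of k)).inv ((Scheme.ΓSpecIso (CommRingCat.of k)).hom z.1)) = _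
    rw [Iso.hom_inv_id_apply]
    rfl
  have hvnm : ∀ f, v (nm f) = v f := fun f => by
    show v (f * (back (eU f))⁻¹) = v f
    rw [map_mul, map_inv, hback, inv_one, _root_.mul_one]
  have henm : ∀ f, eU (nm f) = 1 := fun f => by
    show eU (f * (back (eU f))⁻¹) = 1
    have hb : eU (back (eU f)) = eU f := Units.ext (by
      show η[G].left.appTop ((toUnit G).left.appTop (eU f).1) = _
      rw [← UnitsRos.appTop_comp, toUnit_unique (η[G] ≫ toUnit G) (𝟙 _), UnitsRos.appTop_id])
    rw [map_mul, map_inv, hb, mul_inv_cancel]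
  have hsplit : ∀ f, eU f = 1 → v f = 1 → f = 1 := fun f h1 h2 => by
    rw [← MonoidHom.mem_ker, hker] at h2
    obtain ⟨c, rfl⟩ := h2
    have h3 : η[G].left.appTop (cst c.1) = 1 := congrArg Units.val h1
    have h4 : η[G].left.appTop (cst c.1) = (Scheme.ΓSpecIso (CommRingCat.of k)).inv c.1 := by
      show η[G].left.appTop (G.hom.appTop _) = _
      rw [← CommRingCat.comp_apply, ← Scheme.Hom.comp_appTop, Over.w η[G]]
      exact congrArg (fun φ : Spec (CommRingCat.of k) ⟶ Spec (CommRingCat.of k) =>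
        φ.appTop ((Scheme.ΓSpecIso (CommRingCat.of k)).inv c.1)) (show (𝟙_ (Over (Spec (CommRingCat.of k)))).hom = 𝟙 _ from rfl) |>.trans (by simp)
    rw [h4] at h3
    have h5 : c.1 = 1 := by
      have := congrArg (Scheme.ΓSpecIso (CommRingCat.of k)).hom.hom h3
      rw [map_one] at this
      simpa using this
    exact Units.ext (by show cst c.1 = 1; rw [h5, map_one])
  let e : Fin r → Γ(G.left, ⊤)ˣ := fun i => nm (hv (Multiplicative.ofAdd (Pi.single i 1))).choose
  let sec : Multiplicative M →* Γ(G.left, ⊤)ˣ :=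
    { toFun := fun a => ∏ i, e i ^ (a.toAdd i)
      map_one' := Finset.prod_eq_one fun i _ => zpow_zero _
      map_mul' := fun a b => (Finset.prod_congr rfl fun i _ => zpow_add (e i) (a.toAdd i) (b.toAdd i)).trans
        Finset.prod_mul_distrib }
  have hvsec : ∀ a, v (sec a) = a := fun a => by
    show v (∏ i, e i ^ (a.toAdd i)) = a
    rw [map_prod]
    simp only [map_zpow, e, hvnm, (hv (Multiplicative.ofAdd (Pi.single _ (1 : ℤ)))).choose_spec]
    refine Multiplicative.toAdd.injective ?_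
    simp only [toAdd_prod, toAdd_zpow, toAdd_ofAdd]
    funext j
    simp [Finset.sum_apply, Pi.single_apply]
    rfl
  have hesec : ∀ a, eU (sec a) = 1 := fun a => by
    show eU (∏ i, e i ^ (a.toAdd i)) = 1
    rw [map_prod]
    refine Finset.prod_eq_one fun i _ => ?_
    rw [map_zpow, henm, one_zpow]
  obtain ⟨q, hq⟩ := CT.surj (T := G) ((Units.coeHom _).comp sec)
  have hqm : IsMonHom q := TorsorSch25.isMonHom_of_points _ fun T x y => CT.inj fun a => by
    rw [CT.mul, CT.nat, CT.nat, CT.nat, hq, Hom.mul_def]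
    show (lift x y ≫ μ[G]).left.appTop (sec a).1 = x.left.appTop (sec a).1 * y.left.appTop (sec a).1
    rw [UnitsRos.appTop_comp, UnitsRos.isChar G (sec a).isUnit (congrArg Units.val (hesec a)), map_mul,
      ← UnitsRos.appTop_comp, ← UnitsRos.appTop_comp, lift_fst, lift_snd]
  haveI := hqm
  have hval : ∀ a, CG.ch (q ≫ mapChS CT CG (zmultiplesHom M a)) g₁ = (sec (Multiplicative.ofAdd a)).1 := fun a => by
    rw [ch_mapChS, hq]
    exact congrArg (fun z : M => (sec (Multiplicative.ofAdd z)).1) (one_zsmul a)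
  refine ⟨r, CT, q, hqm, fun χ hχ => ?_, fun a ha => ?_⟩
  · let f : Γ(G.left, ⊤)ˣ := ((Group.isUnit g₁).map (CG.ch χ)).unit
    have hef : eU f = 1 := Units.ext (by
      show η[G].left.appTop (CG.ch χ g₁) = 1
      rw [← CG.nat, IsMonHom.one_hom, one_eq_one, CG.one])
    refine ⟨(v f).toAdd, chars_int_eq CG ?_⟩
    rw [hval, ofAdd_toAdd]
    have h := hsplit (sec (v f) * f⁻¹) (by rw [map_mul, map_inv, hesec, hef, inv_one, _root_.mul_one])
      (by rw [map_mul, map_inv, hvsec, mul_inv_cancel])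
    rw [mul_inv_eq_one] at h
    rw [h]
    rfl
  · have h := hval a
    rw [ha, CG.one] at h
    have h2 : sec (Multiplicative.ofAdd a) = 1 := Units.ext h.symm
    have h3 := hvsec (Multiplicative.ofAdd a)
    rw [h2, map_one] at h3
    exact congrArg Multiplicative.toAdd h3.symm

section

variable {r : ℕ} {CT : Chars (Fin r → ℤ) (Red.DS (Spec (CommRingCat.of k)) (Fin r → ℤ))}
  {CG : Chars ℤ (Red.Gm (Spec (CommRingCat.of k)))}
  {q : G ⟶ Red.DS (Spec (CommRingCat.of k)) (Fin r → ℤ)}

/-- The homomorphism to the torus of characters is faithfully flat. -/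
theorem flat_surjective [IsMonHom q] (hinj : ∀ a, q ≫ mapChS CT CG (zmultiplesHom (Fin r → ℤ) a) = 1 → a = 0) :
    Flat q.left ∧ Surjective q.left ∧ QuasiCompact q.left := by
  haveI : IsAffine (Red.DS (Spec (CommRingCat.of k)) (Fin r → ℤ)).left := TorPts21.isAffine_of_chars CT
  haveI : Smooth (Red.DS (Spec (CommRingCat.of k)) (Fin r → ℤ)).hom := TorPts21.smooth_of_chars CT
  obtain ⟨K, _, n, hnm, hnc, hn⟩ := exists_kernel q
  haveI := hnm
  haveI := hnc
  obtain ⟨Q, _, p, hpm, hpf, hps, hpq, -, hker, hQs, hQq, -⟩ := exists_quotient n (isNormal_of_isKernel hn)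
  haveI := hpm; haveI := hpf; haveI := hps; haveI := hpq; haveI := hQs; haveI := hQq
  haveI := MTExt29.epi_of_cover p
  obtain ⟨i, him, hi⟩ := desc_hom n p hker q (comp_eq_one hn)
  haveI := him
  have htriv : ∀ {T : Over (Spec (CommRingCat.of k))} (z : T ⟶ Q), z ≫ i = 1 → z = 1 := fun {T} z hz => by
    let T' : Over (Spec (CommRingCat.of k)) := Over.mk (pullback.fst z.left p.left ≫ T.hom)
    let π : T' ⟶ T := Over.homMk (pullback.fst z.left p.left) rfl
    let g : T' ⟶ G := Over.homMk (pullback.snd z.left p.left) (by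
      show _ ≫ G.hom = pullback.fst _ _ ≫ T.hom
      rw [← Over.w p, ← Category.assoc, ← pullback.condition, Category.assoc, Over.w z])
    have hg : g ≫ p = π ≫ z := Over.OverMorphism.ext pullback.condition.symm
    haveI : Flat π.left := inferInstanceAs (Flat (pullback.fst _ _))
    haveI : Surjective π.left := inferInstanceAs (Surjective (pullback.fst _ _))
    haveI : QuasiCompact π.left := inferInstanceAs (QuasiCompact (pullback.fst _ _))
    haveI := MTExt29.epi_of_cover π
    have h1 : g ≫ q = 1 := by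
      rw [← hi, ← Category.assoc, hg, Category.assoc, hz, MonObj.comp_one]
    obtain ⟨c, hc⟩ := exists_lift hn g h1
    rw [← cancel_epi π, ← hg, ← hc, Category.assoc, comp_eq_one hker, MonObj.comp_one, MonObj.comp_one]
  haveI : Mono i := ⟨fun {T} a b hab => by
    have h := htriv (a * b⁻¹) (by rw [MonObj.mul_comp, GrpObj.inv_comp, hab, mul_inv_cancel])
    exact mul_inv_eq_one.1 h⟩
  haveI : AddGroup.FG (Fin r → ℤ) := AddGroup.fg_iff_addMonoid_fg.2 inferInstance
  obtain ⟨N, _, _, D, φ, hφs, hφ⟩ := exists_chars_of_mono CT i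
  have hφi : Function.Injective φ := (injective_iff_map_eq_zero φ).2 fun a ha => hinj a (by
    rw [← hi, Category.assoc, hφ, mapChS_comp, show φ.comp (zmultiplesHom _ a) = 0 from AddMonoidHom.ext_int (by
      simp [ha]), mapChS_zero, MonObj.comp_one])
  haveI : IsIso i := hφ ▸ isIso_mapChS D CT ⟨hφi, hφs⟩
  haveI : IsIso i.left := inferInstanceAs (IsIso ((Over.forget _).map i))
  rw [← hi, Over.comp_left]
  exact ⟨inferInstance, inferInstance, inferInstance⟩

/-- A diagonalisable group between a connected group and its torus of characters is that torus. -/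
theorem isIso_of_factor [IsMonHom q] (huniv : ∀ χ : G ⟶ Red.Gm (Spec (CommRingCat.of k)), IsMonHom χ →
      ∃ a, q ≫ mapChS CT CG (zmultiplesHom (Fin r → ℤ) a) = χ)
    (hinj : ∀ a, q ≫ mapChS CT CG (zmultiplesHom (Fin r → ℤ) a) = 1 → a = 0)
    {G₂ : Over (Spec (CommRingCat.of k))} [GrpObj G₂] {N : Type} [AddCommGroup N] (D : Chars N G₂)
    (p : G ⟶ G₂) [IsMonHom p] [Flat p.left] [Surjective p.left] [QuasiCompact p.left]
    (f : G₂ ⟶ Red.DS (Spec (CommRingCat.of k)) (Fin r → ℤ)) [IsMonHom f] (hf : p ≫ f = q) : IsIso f := by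
  haveI : AddGroup.FG (Fin r → ℤ) := AddGroup.fg_iff_addMonoid_fg.2 inferInstance
  haveI := MTExt29.epi_of_cover p
  obtain ⟨φ, hφ⟩ := exists_mapChS_field D CT f
  rw [hφ]
  refine isIso_mapChS D CT ⟨(injective_iff_map_eq_zero φ).2 fun a ha => hinj a ?_, fun b => ?_⟩
  · rw [← hf, Category.assoc, hφ, mapChS_comp, show φ.comp (zmultiplesHom _ a) = 0 from AddMonoidHom.ext_int (by
      simp [ha]), mapChS_zero, MonObj.comp_one]
  · haveI := isMonHom_mapChS D CG (zmultiplesHom N b)
    obtain ⟨a, ha⟩ := huniv (p ≫ mapChS D CG (zmultiplesHom N b)) inferInstance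
    rw [← hf, Category.assoc, cancel_epi, hφ, mapChS_comp] at ha
    refine ⟨a, (sub_eq_zero.1 (eq_zero_of_mapChS_eq_one D CG (b := φ a - b) (chars_int_eq CG ?_)))⟩
    have hs : φ.comp (zmultiplesHom _ a) = zmultiplesHom N (φ a) := AddMonoidHom.ext_int (by simp)
    rw [hs] at ha
    have h1 : ∀ c, CG.ch (mapChS D CG (zmultiplesHom N c)) g₁ = D.ch (𝟙 G₂) (Multiplicative.ofAdd c) := fun c => by
      rw [← Category.id_comp (mapChS D CG (zmultiplesHom N c)), ch_mapChS]
      exact congrArg (fun z => D.ch (𝟙 G₂) (Multiplicative.ofAdd z)) (one_zsmul c)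
    have h2 := congrArg (fun z => CG.ch z g₁) ha
    simp only [h1] at h2
    rw [h1, CG.one, sub_eq_add_neg, ofAdd_add, map_mul, h2, ← map_mul, ← ofAdd_add, add_neg_cancel, ofAdd_zero,
      map_one]

end

end Groth.Agent.CharTorus15
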